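import Groth.Agent.Lib.AlgSpDescent.UnivThick
import Groth.Agent.Lib.AlgSpDescent.SmoothLift
import Groth.Agent.Lib.AlgSpDescent.MonoLft
import Groth.Agent.Lib.AlgSpace.Sub
import Groth.Agent.Lib.AlgSpace.DVRDiagram

/-!
# The first infinitesimal neighbourhood is a universal first order thickening
-/

universe u

set_option backward.isDefEq.respectTransparency.types false

open CategoryTheory CategoryTheory.Limits AlgebraicGeometry AlgSp Opposite MorphismProperty

namespace Groth.Agent.InfNbhd15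

open Groth.Agent.AlgSpace Groth.Agent.AlgSpDecent Groth.Agent.AlgSpDescent

variable {S : Scheme.{u}} {Z U Z₁ : Sp S}

/-- Quotients of affine schemes with the same closed subscheme have the same ideal. -/
theorem ideal_eq {A : CommRingCat.{u}} {str : Spec A ⟶ S} {I I' : Ideal A} {c : Z ⟶ U}
    {β : (yon S).obj (Over.mk str) ⟶ U} {t t'}
    (sq : IsPullback t ((yon S).map (quotArrow I str)) c β)
    (sq' : IsPullback t' ((yon S).map (quotArrow I' str)) c β) : I = I' := by
  suffices key : ∀ (I I' : Ideal A) (t t'),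
      IsPullback t ((yon S).map (quotArrow I str)) c β →
      IsPullback t' ((yon S).map (quotArrow I' str)) c β → I ≤ I' from
    le_antisymm (key I I' t t' sq sq') (key I' I t' t sq' sq)
  intro I I' t t' sq sq'
  obtain ⟨e, he⟩ := (yon S).map_surjective (sq.lift t' ((yon S).map (quotArrow I' str)) sq'.w)
  have h : e ≫ quotArrow I str = quotArrow I' str := (yon S).map_injective (by
    rw [Functor.map_comp, he, IsPullback.lift_snd])
  obtain ⟨χ, hχ⟩ := Spec.map_surjective e.left
  have h' : CommRingCat.ofHom (Ideal.Quotient.mk I) ≫ χ = CommRingCat.ofHom (Ideal.Quotient.mk I') :=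
    Spec.map_injective (by
      rw [Spec.map_comp, hχ]
      exact congrArg (fun k => k.left) h)
  intro x hx
  have := congr($h' x)
  rw [CommRingCat.comp_apply] at this
  rw [← Ideal.Quotient.eq_zero_iff_mem]
  refine this.symm.trans ?_
  show χ.hom (Ideal.Quotient.mk I x) = 0
  rw [Ideal.Quotient.eq_zero_iff_mem.2 hx]
  exact map_zero _

/-- The ideal of a quotient in kernel form. -/
theorem ker_quot {A : CommRingCat.{u}} (I : Ideal A) :
    (Spec.map (CommRingCat.ofHom (Ideal.Quotient.mk I))).ker.ideal ⟨⊤, isAffineOpen_top _⟩ =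
      I.comap (Scheme.ΓSpecIso A).hom.hom := by
  rw [Scheme.Hom.ker_apply]
  show RingHom.ker (Spec.map (CommRingCat.ofHom (Ideal.Quotient.mk I))).appTop.hom = _
  rw [← RingHom.ker_equiv_comp _ (Scheme.ΓSpecIso _).commRingCatIsoToRingEquiv,
    RingEquiv.toRingHom_eq_coe, Iso.commRingCatIsoToRingEquiv_toRingHom, ← CommRingCat.hom_comp,
    Scheme.ΓSpecIso_naturality, CommRingCat.hom_comp, ← RingHom.comap_ker]
  simp [Ideal.mk_ker]
  rfl

/-- Pullbacks of quotients along maps of affine schemes. -/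
theorem isPullback_map {A C : CommRingCat.{u}} {str : Spec A ⟶ S} {str' : Spec C ⟶ S} {c : Z ⟶ U}
    {J : Ideal A} {β : (yon S).obj (Over.mk str) ⟶ U} {t}
    (sq : IsPullback t ((yon S).map (quotArrow J str)) c β) (φ : A ⟶ C)
    (g : Over.mk str' ⟶ Over.mk str) (hg : g.left = Spec.map φ) :
    ∃ t', IsPullback t' ((yon S).map (quotArrow (J.map φ.hom) str')) c ((yon S).map g ≫ β) := by
  have e : str' = Spec.map φ ≫ str := by rw [← hg]; exact (Over.w g).symm
  subst e
  obtain rfl : g = specArrow φ str := Over.OverMorphism.ext hg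
  exact ⟨_, (isPullback_quotTop J φ str).paste_horiz sq⟩

variable {c : Z ⟶ U} {j : Z ⟶ Z₁} {k : Z₁ ⟶ U}

/-- The ideal of the first infinitesimal neighbourhood on an arbitrary affine test scheme. -/
theorem ideal_infNbhd (hU : IsAlgSpace U) (hN : IsInfNbhd 1 c j k) {A : CommRingCat.{u}}
    {str : Spec A ⟶ S} {g : (yon S).obj (Over.mk str) ⟶ U} {J K : Ideal A} {t t₁}
    (sqJ : IsPullback t ((yon S).map (quotArrow J str)) c g)
    (sqK : IsPullback t₁ ((yon S).map (quotArrow K str)) k g) : K = J ^ 2 := by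
  refine Ideal.eq_of_localization_maximal fun P hP => ?_
  let p₀ : Spec A := ⟨P, hP.isPrime⟩
  obtain ⟨V, b, hV, hbe, v₀, hv₀⟩ := exists_affine_chart_at hU (Points.ofPt g p₀)
  let D : CommRingCat.{u} := Γ(V.left, ⊤)
  let strD : Spec D ⟶ S := V.left.isoSpec.inv ≫ V.hom
  let iD : Over.mk strD ⟶ V := Over.homMk V.left.isoSpec.inv rfl
  let bD := (yon S).map iD ≫ b
  have hbD : RepWith @Etale bD :=
    repWith_comp ((repWith_yon_map_iff _ _).2 (inferInstanceAs (Etale V.left.isoSpec.inv))) hbe
  have sqg := hbD.1.isPullback g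
  let sn := hbD.1.snd g
  have hsne : Etale sn.left := hbD.2 g _ _ sqg
  obtain ⟨fn, hfn⟩ := (yon S).map_surjective (hbD.1.fst g)
  obtain ⟨x, -, hx⟩ := exists_pt_of_isPullback sqg
    (x := Points.ofScheme (Over.mk strD) (V.left.isoSpec.hom v₀)) (by
      rw [← Points.ofPt_eq_map_ofScheme, ofPt_map_comp]
      show Points.ofPt b (V.left.isoSpec.inv (V.left.isoSpec.hom v₀)) = _
      rw [← Scheme.Hom.comp_apply, Iso.hom_inv_id]
      exact hv₀)
  obtain ⟨O, hO, hxO, -⟩ := exists_isAffineOpen_mem_and_subset (X := (hbD.1.pullback g).left)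
    (x := x) (U := ⊤) trivial
  let C : CommRingCat.{u} := Γ((hbD.1.pullback g).left, O)
  let strC : Spec C ⟶ S := hO.fromSpec ≫ (hbD.1.pullback g).hom
  let gA : Over.mk strC ⟶ Over.mk str :=
    Over.homMk (hO.fromSpec ≫ sn.left) (by rw [Category.assoc, Over.w sn]; rfl)
  let gD : Over.mk strC ⟶ Over.mk strD :=
    Over.homMk (hO.fromSpec ≫ fn.left) (by rw [Category.assoc, Over.w fn]; rfl)
  obtain ⟨φ, hφ⟩ : ∃ φ : A ⟶ C, gA.left = Spec.map φ := ⟨_, (Spec.map_preimage _).symm⟩
  obtain ⟨ψ, hψ⟩ : ∃ ψ : D ⟶ C, gD.left = Spec.map ψ := ⟨_, (Spec.map_preimage _).symm⟩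
  have hgg : (yon S).map gA ≫ g = (yon S).map gD ≫ bD := by
    have h1 : gA = (Over.homMk hO.fromSpec rfl : Over.mk strC ⟶ _) ≫ sn := Over.OverMorphism.ext rfl
    have h2 : gD = (Over.homMk hO.fromSpec rfl : Over.mk strC ⟶ _) ≫ fn := Over.OverMorphism.ext rfl
    rw [h1, h2, Functor.map_comp_assoc, Functor.map_comp_assoc, hfn, sqg.w]
  obtain ⟨Jd, td, sqJd⟩ := exists_quot_of_affine hN.2.1 strD bD
  obtain ⟨Kd, td₁, sqKd⟩ := exists_quot_of_affine hN.2.2.1 strD bD
  have hd : Kd = Jd ^ 2 := by
    have h := hN.2.2.2 bD td (quotArrow Jd strD) td₁ (quotArrow Kd strD)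
      (inferInstanceAs (IsAffine (Spec D))) hbD sqJd sqKd
    have h' := congrArg (fun I => I.ideal ⟨⊤, isAffineOpen_top _⟩) h
    simp only [Scheme.IdealSheafData.ideal_pow, Pi.pow_apply] at h'
    change (Spec.map _).ker.ideal _ = ((Spec.map _).ker.ideal _) ^ 2 at h'
    rw [ker_quot, ker_quot] at h'
    have hs : Function.Surjective (Scheme.ΓSpecIso D).hom.hom :=
      (Scheme.ΓSpecIso D).commRingCatIsoToRingEquiv.surjective
    have h'' := congrArg (Ideal.map (Scheme.ΓSpecIso D).hom.hom) h'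
    rwa [Ideal.map_comap_of_surjective _ hs, Ideal.map_pow, Ideal.map_comap_of_surjective _ hs] at h''
  obtain ⟨_, e1⟩ := isPullback_map sqJ φ gA hφ
  obtain ⟨_, e2⟩ := isPullback_map sqK φ gA hφ
  obtain ⟨_, e3⟩ := isPullback_map sqJd ψ gD hψ
  obtain ⟨_, e4⟩ := isPullback_map sqKd ψ gD hψ
  rw [hgg] at e1 e2
  have key : K.map φ.hom = (J ^ 2).map φ.hom := by
    rw [ideal_eq e2 e4, Ideal.map_pow, ideal_eq e1 e3, hd, Ideal.map_pow]
  have hfl : Flat gA.left := inferInstanceAs (Flat (hO.fromSpec ≫ sn.left))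
  rw [hφ, HasRingHomProperty.Spec_iff (P := @Flat)] at hfl
  obtain ⟨y, hy⟩ : x ∈ Set.range hO.fromSpec := by rw [hO.range_fromSpec]; exact hxO
  have hPy : P = y.asIdeal.comap φ.hom := by
    have : Spec.map φ y = p₀ := by
      rw [← hφ]
      show sn.left (hO.fromSpec y) = p₀
      rw [hy]
      exact hx
    exact congrArg PrimeSpectrum.asIdeal this.symm
  let lh := Localization.localRingHom P y.asIdeal φ.hom hPy
  have hloc : IsLocalHom lh := Localization.isLocalHom_localRingHom _ _ _ _
  have hlf : lh.Flat := RingHom.Flat.localRingHom hfl _ _ hPy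
  let _ : Algebra (Localization.AtPrime P) (Localization.AtPrime y.asIdeal) := lh.toAlgebra
  have : Module.Flat (Localization.AtPrime P) (Localization.AtPrime y.asIdeal) := hlf
  have : IsLocalHom (algebraMap (Localization.AtPrime P) (Localization.AtPrime y.asIdeal)) := hloc
  have := Module.FaithfullyFlat.of_flat_of_isLocalHom (A := Localization.AtPrime P)
    (B := Localization.AtPrime y.asIdeal)
  rw [← Ideal.comap_map_eq_self_of_faithfullyFlat (B := Localization.AtPrime y.asIdeal)
      (K.map (algebraMap A (Localization.AtPrime P))),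
    ← Ideal.comap_map_eq_self_of_faithfullyFlat (B := Localization.AtPrime y.asIdeal)
      ((J ^ 2).map (algebraMap A (Localization.AtPrime P)))]
  refine congrArg _ ?_
  have hc : lh.comp (algebraMap A (Localization.AtPrime P)) =
      (algebraMap C (Localization.AtPrime y.asIdeal)).comp φ.hom :=
    RingHom.ext fun a => Localization.localRingHom_to_map P y.asIdeal φ.hom hPy a
  rw [Ideal.map_map, Ideal.map_map, RingHom.algebraMap_toAlgebra, hc, ← Ideal.map_map, key, Ideal.map_map]

/-- A test map factors through the neighbourhood iff the square of the ideal of the subspace vanishes. -/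
theorem exists_factor_iff (hU : IsAlgSpace U) (hN : IsInfNbhd 1 c j k) {A : CommRingCat.{u}}
    {str : Spec A ⟶ S} (g : (yon S).obj (Over.mk str) ⟶ U) {J : Ideal A} {t}
    (sqJ : IsPullback t ((yon S).map (quotArrow J str)) c g) :
    (∃ l, l ≫ k = g) ↔ J ^ 2 = ⊥ := by
  obtain ⟨K, t₁, sqK⟩ := exists_quot_of_affine hN.2.2.1 str g
  rw [← ideal_infNbhd hU hN sqJ sqK]
  constructor
  · rintro ⟨l, hl⟩
    obtain ⟨e, he⟩ := (yon S).map_surjective (sqK.lift l (𝟙 _) (by rw [hl, Category.id_comp]))
    have h : e ≫ quotArrow K str = 𝟙 _ := (yon S).map_injective (by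
      rw [Functor.map_comp, he, IsPullback.lift_snd, CategoryTheory.Functor.map_id])
    obtain ⟨χ, hχ⟩ := Spec.map_surjective e.left
    have h' : CommRingCat.ofHom (Ideal.Quotient.mk K) ≫ χ = 𝟙 A := Spec.map_injective (by
      rw [Spec.map_comp, hχ]
      exact (congrArg (fun k => k.left) h).trans (Spec.map_id A).symm)
    refine eq_bot_iff.2 fun x hx => (Submodule.mem_bot _).2 ?_
    have := congr($h' x)
    rw [CommRingCat.comp_apply] at this
    refine this.symm.trans ?_
    show χ.hom (Ideal.Quotient.mk K x) = 0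
    rw [Ideal.Quotient.eq_zero_iff_mem.2 hx]
    exact map_zero _
  · rintro rfl
    let r : Spec A ⟶ Spec (CommRingCat.of (A ⧸ (⊥ : Ideal A))) :=
      Spec.map (CommRingCat.ofHom (RingEquiv.quotientBot A).toRingHom)
    have hr : r ≫ Spec.map (CommRingCat.ofHom (Ideal.Quotient.mk (⊥ : Ideal A))) = 𝟙 _ := by
      rw [← Spec.map_comp, ← CommRingCat.ofHom_comp]
      exact (congrArg Spec.map (CommRingCat.hom_ext (RingHom.ext fun x => rfl))).trans (Spec.map_id _)
    let r' : Over.mk str ⟶ Over.mk (Spec.map (CommRingCat.ofHom (Ideal.Quotient.mk (⊥ : Ideal A))) ≫ str) :=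
      Over.homMk r ((Category.assoc _ _ _).symm.trans (by rw [hr]; exact Category.id_comp _))
    refine ⟨(yon S).map r' ≫ t₁, ?_⟩
    rw [Category.assoc, sqK.w, ← Functor.map_comp_assoc,
      show r' ≫ quotArrow (⊥ : Ideal A) str = 𝟙 _ from Over.OverMorphism.ext hr,
      CategoryTheory.Functor.map_id, Category.id_comp]

/-- Pullbacks along a monomorphism. -/
theorem isPullback_comp_mono {T P : Sp S} [Mono k] (w : j ≫ k = c) {fst : P ⟶ Z} {snd : P ⟶ T}
    {g : T ⟶ Z₁} (sq : IsPullback fst snd j g) : IsPullback fst snd c (g ≫ k) := by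
  subst w
  exact IsPullback.of_isLimit' ⟨by rw [reassoc_of% sq.w]⟩
      (PullbackCone.IsLimit.mk _ (fun s => sq.lift s.fst s.snd
        ((cancel_mono k).1 (by simpa only [Category.assoc] using s.condition)))
        (fun s => sq.lift_fst _ _ _) (fun s => sq.lift_snd _ _ _)
        (fun s m h₁ h₂ => sq.hom_ext (h₁.trans (sq.lift_fst _ _ _).symm) (h₂.trans (sq.lift_snd _ _ _).symm)))

/-- The first infinitesimal neighbourhood is a first order thickening. -/
theorem isFOThickMor_infNbhd (hU : IsAlgSpace U) (hN : IsInfNbhd 1 c j k) : IsFOThickMor j := by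
  have : Mono k := mono_of_repWith_closedImmersion hN.2.2.1
  have hrep : Representable j := fun T g => by
    obtain ⟨P, snd, fst, sq⟩ := hN.2.1.1 (g ≫ k)
    refine ⟨P, snd, fst, IsPullback.of_isLimit' ⟨(cancel_mono k).1 (by
        rw [Category.assoc, hN.1, Category.assoc]; exact sq.w)⟩
      (PullbackCone.IsLimit.mk _ (fun s => sq.lift s.fst s.snd
        (by rw [← hN.1, reassoc_of% s.condition]))
        (fun s => sq.lift_fst _ _ _) (fun s => sq.lift_snd _ _ _)
        (fun s m h₁ h₂ => sq.hom_ext (h₁.trans (sq.lift_fst _ _ _).symm) (h₂.trans (sq.lift_snd _ _ _).symm)))⟩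
  have hthick : IsThickMor j := by
    refine ⟨hrep, fun T W g fst snd sq => ?_⟩
    have sqc := isPullback_comp_mono hN.1 sq
    refine ⟨hN.2.1.2 _ _ _ sqc, ⟨fun x => ?_⟩⟩
    let A : CommRingCat.{u} := T.left.residueField x
    let str : Spec A ⟶ S := T.left.fromSpecResidueField x ≫ T.hom
    let q : Over.mk str ⟶ T := Over.homMk (T.left.fromSpecResidueField x) rfl
    obtain ⟨J, t, sqJ⟩ := exists_quot_of_affine hN.2.1 str ((yon S).map q ≫ g ≫ k)
    have hJ2 : J ^ 2 = ⊥ := (exists_factor_iff hU hN _ sqJ).1 ⟨(yon S).map q ≫ g, Category.assoc _ _ _⟩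
    have hJ : J = ⊥ := by
      rcases Ideal.eq_bot_or_top (K := T.left.residueField x) J with h | h
      · exact h
      · exfalso
        rw [h, Ideal.top_pow] at hJ2
        exact top_ne_bot hJ2
    obtain ⟨e, he⟩ := (yon S).map_surjective (sqc.lift t
      ((yon S).map (quotArrow J str ≫ q)) (by rw [sqJ.w, Functor.map_comp, Category.assoc]))
    have h : e ≫ snd = quotArrow J str ≫ q := (yon S).map_injective (by
      rw [Functor.map_comp, he, IsPullback.lift_snd])
    subst hJ
    let pt : Spec (CommRingCat.of (A ⧸ (⊥ : Ideal A))) :=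
      Spec.map (CommRingCat.ofHom (RingEquiv.quotientBot A).toRingHom)
        (IsLocalRing.closedPoint (T.left.residueField x))
    refine ⟨e.left pt, ?_⟩
    change (e ≫ snd).left pt = x
    rw [h]
    exact T.left.fromSpecResidueField_apply x _
  refine ⟨hthick, fun V W b fst snd hV hb sq => ?_⟩
  have sqc := isPullback_comp_mono hN.1 sq
  let D : CommRingCat.{u} := Γ(V.left, ⊤)
  let strD : Spec D ⟶ S := V.left.isoSpec.inv ≫ V.hom
  let iD : Over.mk strD ≅ V := Over.isoMk V.left.isoSpec.symm rfl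
  obtain ⟨J, t, sqJ⟩ := exists_quot_of_affine hN.2.1 strD ((yon S).map iD.hom ≫ b ≫ k)
  have hJ2 : J ^ 2 = ⊥ :=
    (exists_factor_iff hU hN _ sqJ).1 ⟨(yon S).map iD.hom ≫ b, Category.assoc _ _ _⟩
  have sqJ' : IsPullback t ((yon S).map (quotArrow J strD ≫ iD.hom)) c (b ≫ k) :=
    IsPullback.of_iso sqJ (Iso.refl _) (Iso.refl _) ((yon S).mapIso iD) (Iso.refl _)
      (by simp) (by simp) (by simp) (by simp)
  obtain ⟨e, he⟩ := (yon S).map_surjective (sqc.flip.isoIsPullback _ _ sqJ'.flip).hom
  have he' : e ≫ quotArrow J strD ≫ iD.hom = snd := (yon S).map_injective (by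
    rw [Functor.map_comp, he]
    exact sqc.flip.isoIsPullback_hom_fst _ _ sqJ'.flip)
  have : IsIso ((yon S).map e) := he ▸ inferInstance
  have : IsIso e := isIso_of_reflects_iso e (yon S)
  have : IsIso e.left := inferInstanceAs (IsIso ((Over.forget S).map e))
  have : IsClosedImmersion snd.left := hN.2.1.2 _ _ _ sqc
  refine sqZero_of_appTop _ fun x y hx hy => ?_
  let ι := V.left.isoSpec.inv.appTop
  have : IsIso ι := inferInstanceAs (IsIso (V.left.isoSpec.inv.app ⊤))
  have key : ∀ z, snd.left.appTop z = 0 → (Scheme.ΓSpecIso D).hom (ι z) ∈ J := fun z hz => by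
    rw [← he', Over.comp_left, Over.comp_left, Scheme.Hom.comp_appTop, Scheme.Hom.comp_appTop] at hz
    simp only [CommRingCat.hom_comp, RingHom.comp_apply] at hz
    have : IsIso e.left.appTop := inferInstanceAs (IsIso (e.left.app ⊤))
    have h0 := (map_eq_zero_iff _ (ConcreteCategory.bijective_of_isIso e.left.appTop).1).1 hz
    rw [← Ideal.Quotient.eq_zero_iff_mem]
    have := congrArg (fun k => k (ι z))
      (Scheme.ΓSpecIso_naturality (CommRingCat.ofHom (Ideal.Quotient.mk J)))
    simp only [CommRingCat.hom_comp, RingHom.comp_apply] at this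
    change _ = Ideal.Quotient.mk J ((Scheme.ΓSpecIso D).hom (ι z)) at this
    rw [← this]
    exact (congrArg _ h0).trans (map_zero _)
  have hinj := (ConcreteCategory.bijective_of_isIso (ι ≫ (Scheme.ΓSpecIso D).hom)).1
  refine hinj ?_
  rw [map_mul, map_zero]
  simp only [ConcreteCategory.comp_apply]
  have := Ideal.mul_mem_mul (key x hx) (key y hy)
  rwa [← pow_two, hJ2, Ideal.mem_bot] at this

/-- The first infinitesimal neighbourhood is a universal first order thickening. -/
theorem isUnivFOThick_infNbhd {X : Sp S} (hZ₁ : IsAlgSpace Z₁) (hU : IsAlgSpace U) (hX : IsAlgSpace X)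
    {u : U ⟶ X} (hu : RepWith @IsOpenImmersion u) (hN : IsInfNbhd 1 c j k) :
    IsUnivFOThick (c ≫ u) j (k ≫ u) := by
  have : Mono k := mono_of_repWith_closedImmersion hN.2.2.1
  have : Mono u := mono_of_isImmersion
    (repWith_mono (fun _ _ g (_ : IsOpenImmersion g) => inferInstanceAs (IsImmersion g)) hu)
  have hj := isFOThickMor_infNbhd hU hN
  refine (isUnivFOThick_iff_affine hZ₁ hX hj (by rw [← Category.assoc, hN.1])).2 ?_
  intro T T' q hT' hq a b hab
  -- the test map lands in the open subspace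
  obtain ⟨b₀, hb₀⟩ := exists_factor_of_range hu b (by
    rintro _ ⟨y, rfl⟩
    obtain ⟨y', rfl⟩ := surjective_of_thick hq.1 y
    rw [← Points.map_comp, hab, Points.map_comp, Points.map_comp]
    exact ⟨_, rfl⟩)
  have hab₀ : (yon S).map q ≫ b₀ = a ≫ c :=
    (cancel_mono u).1 (by rw [Category.assoc, hb₀, hab, Category.assoc])
  have hqt := isFirstOrderThickening_of_isFOThickMor_yon_map hT' hq
  let D : CommRingCat.{u} := Γ(T'.left, ⊤)
  let strD : Spec D ⟶ S := T'.left.isoSpec.inv ≫ T'.hom
  let iD : Over.mk strD ≅ T' := Over.isoMk T'.left.isoSpec.symm rfl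
  obtain ⟨J, t, sqJ⟩ := exists_quot_of_affine hN.2.1 strD ((yon S).map iD.hom ≫ b₀)
  obtain ⟨e, he⟩ := (yon S).map_surjective (sqJ.lift a ((yon S).map (q ≫ iD.inv)) (by
    rw [← Functor.map_comp_assoc, Category.assoc, Iso.inv_hom_id, Category.comp_id, hab₀]))
  have he' : e ≫ quotArrow J strD = q ≫ iD.inv := (yon S).map_injective (by
    rw [Functor.map_comp, he, IsPullback.lift_snd])
  have hJ2 : J ^ 2 = ⊥ := by
    have : IsClosedImmersion q.left := hqt.1.1
    let ι := (Scheme.ΓSpecIso D).inv ≫ T'.left.isoSpec.hom.appTop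
    have key : ∀ z ∈ J, q.left.appTop (ι z) = 0 := fun z hz => by
      have h := congrArg (fun k => k ((Scheme.ΓSpecIso D).inv z))
        (congrArg (fun m => Scheme.Hom.appTop m) (show e.left ≫ (quotArrow J strD).left =
          q.left ≫ T'.left.isoSpec.hom from congrArg (fun k => k.left) he'))
      simp only [Scheme.Hom.comp_appTop, CommRingCat.hom_comp, RingHom.comp_apply] at h
      change _ = q.left.appTop (ι z) at h
      rw [← h]
      have h2 := congrArg (fun k => k z)
        (Scheme.ΓSpecIso_inv_naturality (CommRingCat.ofHom (Ideal.Quotient.mk J)))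
      simp only [CommRingCat.hom_comp, RingHom.comp_apply] at h2
      change (Scheme.ΓSpecIso (CommRingCat.of (D ⧸ J))).inv (Ideal.Quotient.mk J z) = _ at h2
      refine (congrArg _ h2.symm).trans ?_
      rw [Ideal.Quotient.eq_zero_iff_mem.2 hz, map_zero, map_zero]
    have h0 : RingHom.ker q.left.appTop.hom * RingHom.ker q.left.appTop.hom = ⊥ := by
      have h₀ : q.left.ker.ideal ⟨⊤, isAffineOpen_top _⟩ = RingHom.ker q.left.appTop.hom :=
        Scheme.Hom.ker_apply q.left ⟨⊤, isAffineOpen_top _⟩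
      rw [← h₀, ← Pi.mul_apply, ← Scheme.IdealSheafData.ideal_mul, hqt.2]
      rfl
    have : IsIso T'.left.isoSpec.hom.appTop := inferInstanceAs (IsIso (T'.left.isoSpec.hom.app ⊤))
    have hinj := (ConcreteCategory.bijective_of_isIso ι).1
    rw [pow_two, eq_bot_iff, Ideal.mul_le]
    intro x hx y hy
    have hxy := Ideal.mul_mem_mul (show ι x ∈ RingHom.ker q.left.appTop.hom from key x hx)
      (show ι y ∈ RingHom.ker q.left.appTop.hom from key y hy)
    rw [h0, Ideal.mem_bot, ← map_mul] at hxy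
    rw [Ideal.mem_bot]
    exact hinj (hxy.trans (map_zero _).symm)
  obtain ⟨l, hl⟩ := (exists_factor_iff hU hN _ sqJ).2 hJ2
  have hk : ((yon S).map iD.inv ≫ l) ≫ k = b₀ := by
    rw [Category.assoc, hl, ← Functor.map_comp_assoc, Iso.inv_hom_id, CategoryTheory.Functor.map_id,
      Category.id_comp]
  refine ⟨(yon S).map iD.inv ≫ l, ⟨(cancel_mono k).1 ?_, by rw [← Category.assoc, hk, hb₀]⟩, fun a' h => ?_⟩
  · rw [Category.assoc, hk, Category.assoc, hN.1]
    exact hab₀
  · exact (cancel_mono k).1 ((cancel_mono u).1 (by rw [hk, hb₀, Category.assoc]; exact h.2))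

end Groth.Agent.InfNbhd15
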